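import Groth.Prelude.Def_ParaF
import Groth.Prelude.Def_FlatMod2
import Mathlib

/-!
# Full faithfulness of restriction to an open, through bijectivity of restriction of sections
-/

set_option autoImplicit false
universe u

open CategoryTheory CategoryTheory.Limits AlgebraicGeometry TopologicalSpace Opposite
open Scheme.Modules

namespace Groth.Agent.ParaFLib

variable {X Y : Scheme.{u}}

/-- Restriction of sections of `M` from any open to its trace on `U` is bijective. -/
def SecBij (U : X.Opens) (M : X.Modules) : Prop :=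
  ∀ W : X.Opens, Function.Bijective (M.presheaf.map (homOfLE (inf_le_left : W ⊓ U ≤ W)).op)

lemma bij_map_congr (P : (X.Opens)ᵒᵖ ⥤ AddCommGrpCat.{u}) {a a' b b' : X.Opens} (ha : a = a')
    (hb : b = b') (h : a ≤ b) (h' : a' ≤ b') :
    Function.Bijective (P.map (homOfLE h).op) ↔ Function.Bijective (P.map (homOfLE h').op) := by
  subst ha hb; rfl

lemma bij_map_of_eq (P : (X.Opens)ᵒᵖ ⥤ AddCommGrpCat.{u}) {a b : X.Opens} (e : a = b) (h : a ≤ b) :
    Function.Bijective (P.map (homOfLE h).op) := by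
  subst e
  rw [show homOfLE h = 𝟙 a from rfl, op_id, CategoryTheory.Functor.map_id]
  exact Function.bijective_id

lemma map_map (M : X.Modules) {a b c : X.Opens} (h₁ : a ≤ b) (h₂ : b ≤ c) (x : Γ(M, c)) :
    M.presheaf.map (homOfLE h₁).op (M.presheaf.map (homOfLE h₂).op x) =
      M.presheaf.map (homOfLE (h₁.trans h₂)).op x := by
  rw [← ConcreteCategory.comp_apply, ← Functor.map_comp, ← op_comp, homOfLE_comp]

lemma app_map {M N : X.Modules} (φ : M ⟶ N) {a b : X.Opens} (h : a ≤ b) (x : Γ(M, b)) :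
    φ.app a (M.presheaf.map (homOfLE h).op x) = N.presheaf.map (homOfLE h).op (φ.app b x) :=
  ConcreteCategory.congr_hom (φ.mapPresheaf.naturality (homOfLE h).op) x

lemma app_app {M N K : X.Modules} (φ : M ⟶ N) (ψ : N ⟶ K) (a : X.Opens) (x : Γ(M, a)) :
    ψ.app a (φ.app a x) = (φ ≫ ψ).app a x := rfl

lemma SecBij.of_iso {U : X.Opens} {M N : X.Modules} (e : M ≅ N) (h : SecBij U M) : SecBij U N := by
  have he : ∀ a, Function.Bijective (e.hom.app a) := fun a =>
    (ConcreteCategory.isIso_iff_bijective _).1 inferInstance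
  intro W
  have h1 : (M.presheaf.map (homOfLE (inf_le_left : W ⊓ U ≤ W)).op ≫ e.hom.app _) =
      e.hom.app W ≫ N.presheaf.map (homOfLE (inf_le_left : W ⊓ U ≤ W)).op :=
    e.hom.mapPresheaf.naturality _
  have := ((he _).comp (h W))
  rw [← Function.Bijective.of_comp_iff _ (he W)]
  convert this using 1
  funext x
  exact (ConcreteCategory.congr_hom h1 x).symm

lemma secBij_structureModule {U : X.Opens}
    (h : ∀ V : X.Opens, Function.Bijective (X.presheaf.map (homOfLE (inf_le_left : V ⊓ U ≤ V)).op)) :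
    SecBij U (Coh.structureModule X) := h

/-- `SecBij` is inherited by restriction along an open immersion. -/
lemma SecBij.restrict {U : X.Opens} {M : X.Modules} (h : SecBij U M) (k : Y ⟶ X) [IsOpenImmersion k] :
    SecBij (k ⁻¹ᵁ U) (M.restrict k) := by
  intro W
  have e : k ''ᵁ (W ⊓ k ⁻¹ᵁ U) = k ''ᵁ W ⊓ U := by
    ext x
    constructor
    · rintro ⟨y, ⟨hy, hyU⟩, rfl⟩
      exact ⟨⟨y, hy, rfl⟩, hyU⟩
    · rintro ⟨⟨y, hy, rfl⟩, hxU⟩
      exact ⟨y, ⟨hy, hxU⟩, rfl⟩
  exact (bij_map_congr M.presheaf e rfl (Scheme.Hom.image_mono _ inf_le_left) inf_le_left).2 (h (k ''ᵁ W))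

lemma secBij_freeMod {U : X.Opens} (h : SecBij U (Coh.structureModule X)) (n : ℕ) :
    SecBij U (FlatMod.freeMod X n) := by
  classical
  intro W
  let ι' : Fin n → (Coh.structureModule X ⟶ FlatMod.freeMod X n) :=
    fun i => Sigma.ι (fun _ : Fin n => Coh.structureModule X) i
  let π : Fin n → (FlatMod.freeMod X n ⟶ Coh.structureModule X) :=
    fun i => Sigma.desc fun j => if j = i then 𝟙 _ else 0
  have hid : ∑ i, π i ≫ ι' i = 𝟙 _ := by
    refine Sigma.hom_ext _ _ fun j => ?_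
    rw [Preadditive.comp_sum, Category.comp_id, Finset.sum_eq_single j]
    · simp [π, ι']
    · intro b _ hb; simp [π, hb.symm]
    · simp
  have happ : ∀ (a : X.Opens) (f : Fin n → (FlatMod.freeMod X n ⟶ FlatMod.freeMod X n))
      (x : Γ(FlatMod.freeMod X n, a)), (∑ i, f i).app a x = ∑ i, (f i).app a x := by
    intro a f x
    induction (Finset.univ : Finset (Fin n)) using Finset.induction with
    | empty => rfl
    | insert i s hi ih => rw [Finset.sum_insert hi, Finset.sum_insert hi, ← ih]; rfl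
  have hdec : ∀ (a : X.Opens) (x : Γ(FlatMod.freeMod X n, a)),
      x = ∑ i, (ι' i).app a ((π i).app a x) := fun a x => by
    conv_lhs => rw [show x = (𝟙 (FlatMod.freeMod X n) :).app a x from rfl, ← hid, happ]
    rfl
  refine ⟨fun x y hxy => ?_, fun t => ?_⟩
  · have hp : ∀ i, (π i).app W x = (π i).app W y := fun i => (h W).1 (by
      rw [← app_map, ← app_map, hxy])
    rw [hdec W x, hdec W y]
    simp only [hp]
  · choose a ha using fun i => (h W).2 ((π i).app _ t)
    refine ⟨∑ i, (ι' i).app W (a i), ?_⟩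
    rw [map_sum]
    conv_rhs => rw [hdec _ t]
    refine Finset.sum_congr rfl fun i _ => ?_
    rw [← app_map, ha]

/-- Bijectivity of restriction may be checked locally. -/
lemma secBij_of_local {U : X.Opens} {M : X.Modules}
    (h : ∀ x : X, ∃ B : X.Opens, x ∈ B ∧ SecBij (B.ι ⁻¹ᵁ U) (M.restrict B.ι)) : SecBij U M := by
  choose B hxB hB using h
  have hloc : ∀ (x : X) (W : X.Opens), W ≤ B x →
      Function.Bijective (M.presheaf.map (homOfLE (inf_le_left : W ⊓ U ≤ W)).op) := by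
    intro x W hW
    have e : (B x).ι ''ᵁ ((B x).ι ⁻¹ᵁ W) = W := by
      rw [Scheme.Hom.image_preimage_eq_opensRange_inf, Scheme.Opens.opensRange_ι, inf_eq_right]
      exact hW
    have e' : (B x).ι ''ᵁ ((B x).ι ⁻¹ᵁ W ⊓ (B x).ι ⁻¹ᵁ U) = W ⊓ U := by
      rw [← Scheme.Hom.preimage_inf, Scheme.Hom.image_preimage_eq_opensRange_inf,
        Scheme.Opens.opensRange_ι, inf_eq_right]
      exact inf_le_left.trans hW
    exact (bij_map_congr M.presheaf e' e (Scheme.Hom.image_mono _ inf_le_left) inf_le_left).1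
      (hB x ((B x).ι ⁻¹ᵁ W))
  intro W
  let F : TopCat.Sheaf Ab.{u} X.toPresheafedSpace := ⟨M.presheaf, M.isSheaf⟩
  have hcov : W ≤ ⨆ x : X, W ⊓ B x := fun y hy => Opens.mem_iSup.2 ⟨y, hy, hxB y⟩
  have hinj : ∀ (W : X.Opens),
      Function.Injective (M.presheaf.map (homOfLE (inf_le_left : W ⊓ U ≤ W)).op) := by
    intro W s t hst
    refine F.eq_of_locally_eq' (fun x : X => W ⊓ B x) W (fun x => homOfLE inf_le_left)
      (fun y hy => Opens.mem_iSup.2 ⟨y, hy, hxB y⟩) s t fun x => (hloc x (W ⊓ B x) inf_le_right).1 ?_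
    have hle : (W ⊓ B x) ⊓ U ≤ W ⊓ U := le_inf (inf_le_left.trans inf_le_left) inf_le_right
    have := congrArg (M.presheaf.map (homOfLE hle).op) hst
    simpa only [F, map_map] using this
  refine ⟨hinj W, fun t => ?_⟩
  choose s hs using fun x : X => (hloc x (W ⊓ B x) inf_le_right).2
    (M.presheaf.map (homOfLE (le_inf (inf_le_left.trans inf_le_left) inf_le_right :
      (W ⊓ B x) ⊓ U ≤ W ⊓ U)).op t)
  have hcomp : TopCat.Presheaf.IsCompatible F.1 (fun x : X => W ⊓ B x) s := by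
    intro x y
    refine hinj _ ?_
    have hx : ((W ⊓ B x) ⊓ (W ⊓ B y)) ⊓ U ≤ (W ⊓ B x) ⊓ U := inf_le_inf_right U inf_le_left
    have hy : ((W ⊓ B x) ⊓ (W ⊓ B y)) ⊓ U ≤ (W ⊓ B y) ⊓ U := inf_le_inf_right U inf_le_right
    have h1 := congrArg (M.presheaf.map (homOfLE hx).op) (hs x)
    have h2 := congrArg (M.presheaf.map (homOfLE hy).op) (hs y)
    rw [map_map, map_map] at h1 h2
    change M.presheaf.map (homOfLE (inf_le_left : ((W ⊓ B x) ⊓ (W ⊓ B y)) ⊓ U ≤ _)).op
        (M.presheaf.map (homOfLE (inf_le_left : (W ⊓ B x) ⊓ (W ⊓ B y) ≤ W ⊓ B x)).op (s x)) =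
      M.presheaf.map (homOfLE (inf_le_left : ((W ⊓ B x) ⊓ (W ⊓ B y)) ⊓ U ≤ _)).op
        (M.presheaf.map (homOfLE (inf_le_right : (W ⊓ B x) ⊓ (W ⊓ B y) ≤ W ⊓ B y)).op (s y))
    rw [map_map, map_map]
    exact h1.trans h2.symm
  obtain ⟨gl, hgl, -⟩ := F.existsUnique_gluing' (fun x : X => W ⊓ B x) W
    (fun x => homOfLE inf_le_left) hcov s hcomp
  refine ⟨gl, F.eq_of_locally_eq' (fun x : X => (W ⊓ B x) ⊓ U) (W ⊓ U)
    (fun x => homOfLE (le_inf (inf_le_left.trans inf_le_left) inf_le_right))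
    (fun y hy => Opens.mem_iSup.2 ⟨y, ⟨hy.1, hxB y⟩, hy.2⟩) _ _ fun x => ?_⟩
  have h1 := congrArg (M.presheaf.map (homOfLE (inf_le_left : (W ⊓ B x) ⊓ U ≤ W ⊓ B x)).op) (hgl x)
  change M.presheaf.map _ (M.presheaf.map (homOfLE (inf_le_left : W ⊓ B x ≤ W)).op gl) = _ at h1
  rw [map_map, hs x] at h1
  change M.presheaf.map _ (M.presheaf.map _ gl) = M.presheaf.map _ t
  rw [map_map]
  exact h1

lemma secBij_of_isInvertible {U : X.Opens} (h : SecBij U (Coh.structureModule X)) {L : X.Modules}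
    (hL : PicF.IsInvertible L) : SecBij U L :=
  secBij_of_local fun x => by
    obtain ⟨B, hx, ⟨e⟩⟩ := hL x
    exact ⟨B, hx, ((h.restrict B.ι).of_iso (restrictUnitIso B.ι)).of_iso e.symm⟩

lemma secBij_of_isFinLocFree {U : X.Opens} (h : SecBij U (Coh.structureModule X)) {L : X.Modules}
    (hL : FlatMod.IsFinLocFree L) : SecBij U L :=
  secBij_of_local fun x => by
    obtain ⟨B, n, hx, ⟨e⟩⟩ := hL x
    exact ⟨B, hx, (secBij_freeMod ((h.restrict B.ι).of_iso (restrictUnitIso B.ι)) n).of_iso e.symm⟩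

/-- Pushforwards from `U` have bijective restrictions to `U`. -/
lemma secBij_pushforward (j : Y ⟶ X) [IsOpenImmersion j] (L : Y.Modules) :
    SecBij j.opensRange ((pushforward j).obj L) := by
  intro W
  refine bij_map_of_eq L.presheaf (a := j ⁻¹ᵁ (W ⊓ j.opensRange)) (b := j ⁻¹ᵁ W) ?_ _
  ext y
  exact ⟨fun h => h.1, fun h => ⟨h, y, rfl⟩⟩

lemma isIso_unit_app (j : Y ⟶ X) [IsOpenImmersion j] {M : X.Modules} (h : SecBij j.opensRange M) :
    IsIso ((restrictAdjunction j).unit.app M) := by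
  rw [Scheme.Modules.Hom.isIso_iff_isIso_app]
  intro W
  rw [restrictAdjunction_unit_app_app]
  refine (ConcreteCategory.isIso_iff_bijective _).2 ?_
  refine (bij_map_congr M.presheaf ?_ rfl inf_le_left _).1 (h W)
  rw [Scheme.Hom.image_preimage_eq_opensRange_inf, inf_comm]

/-- Restriction is fully faithful towards modules with bijective restriction of sections. -/
lemma bijective_map (j : Y ⟶ X) [IsOpenImmersion j] {L L' : X.Modules} (h : SecBij j.opensRange L') :
    Function.Bijective (fun φ : L ⟶ L' => (restrictFunctor j).map φ) := by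
  have := isIso_unit_app j h
  let e := ((restrictAdjunction j).homEquiv L ((restrictFunctor j).obj L')).trans
    (Iso.homCongr (Iso.refl L) (asIso ((restrictAdjunction j).unit.app L')).symm)
  have he : ∀ φ : L ⟶ L', e ((restrictFunctor j).map φ) = φ := fun φ => by
    simp only [e, Equiv.trans_apply, Adjunction.homEquiv_unit, Iso.homCongr_apply, Iso.refl_inv,
      Category.id_comp, Iso.symm_hom, asIso_inv]
    rw [Adjunction.unit_naturality, Category.assoc, IsIso.hom_inv_id]
    exact Category.comp_id φ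
  exact ⟨fun a b hab => by rw [← he a, ← he b]; exact congrArg e hab,
    fun ψ => ⟨e ψ, e.injective (he _)⟩⟩

/-- A module with bijective restriction of sections is the pushforward of its restriction. -/
noncomputable def isoPushforward (j : Y ⟶ X) [IsOpenImmersion j] {M : X.Modules}
    (h : SecBij j.opensRange M) {N : Y.Modules} (e : M.restrict j ≅ N) :
    M ≅ (pushforward j).obj N :=
  have := isIso_unit_app j h
  asIso ((restrictAdjunction j).unit.app M) ≪≫ (pushforward j).mapIso e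

/-- The restriction of a pushforward. -/
noncomputable def pushforwardRestrictIso (j : Y ⟶ X) [IsOpenImmersion j] (N : Y.Modules) :
    ((pushforward j).obj N).restrict j ≅ N :=
  asIso ((restrictAdjunction j).counit.app N)

/-- Restriction along equal composites. -/
noncomputable def sqIso {A B C D : Scheme.{u}} (f : A ⟶ B) (g : B ⟶ D) (f' : A ⟶ C) (g' : C ⟶ D)
    [IsOpenImmersion f] [IsOpenImmersion g] [IsOpenImmersion f'] [IsOpenImmersion g']
    (h : f ≫ g = f' ≫ g') :
    restrictFunctor g ⋙ restrictFunctor f ≅ restrictFunctor g' ⋙ restrictFunctor f' :=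
  (restrictFunctorComp f g).symm ≪≫ restrictFunctorCongr h ≪≫ restrictFunctorComp f' g'

lemma isInvertible_of_iso {L L' : X.Modules} (e : L ≅ L') (h : PicF.IsInvertible L) :
    PicF.IsInvertible L' := fun y => by
  obtain ⟨U, hy, ⟨i⟩⟩ := h y
  exact ⟨U, hy, ⟨((restrictFunctor U.ι).mapIso e).symm ≪≫ i⟩⟩

lemma isInvertible_restrict (k : Y ⟶ X) [IsOpenImmersion k] {L : X.Modules}
    (h : PicF.IsInvertible L) : PicF.IsInvertible (L.restrict k) := fun y => by
  obtain ⟨U, hy, ⟨i⟩⟩ := h (k.base y)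
  exact ⟨k ⁻¹ᵁ U, hy,
    ⟨(sqIso (k ⁻¹ᵁ U).ι k (k ∣_ U) U.ι (morphismRestrict_ι k U).symm).app L ≪≫
      (restrictFunctor (k ∣_ U)).mapIso i ≪≫ restrictUnitIso (k ∣_ U)⟩⟩

lemma isInvertible_structureModule (X : Scheme.{u}) : PicF.IsInvertible (Coh.structureModule X) :=
  fun _ => ⟨⊤, trivial, ⟨restrictUnitIso _⟩⟩

/-- Invertibility may be checked locally. -/
lemma isInvertible_of_local {L : X.Modules}
    (h : ∀ x : X, ∃ B : X.Opens, x ∈ B ∧ PicF.IsInvertible (L.restrict B.ι)) :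
    PicF.IsInvertible L := fun x => by
  obtain ⟨B, hx, hB⟩ := h x
  obtain ⟨U, hy, ⟨i⟩⟩ := hB ⟨x, hx⟩
  have w : (B.ι ''ᵁ U).ι = (B.ι.isoImage U).inv ≫ (U.ι ≫ B.ι) := by simp
  exact ⟨B.ι ''ᵁ U, ⟨⟨x, hx⟩, hy, rfl⟩, ⟨(restrictFunctorCongr w).app L ≪≫
    (restrictFunctorComp (B.ι.isoImage U).inv (U.ι ≫ B.ι)).app L ≪≫
    (restrictFunctor (B.ι.isoImage U).inv).mapIso ((restrictFunctorComp U.ι B.ι).app L ≪≫ i) ≪≫
    restrictUnitIso _⟩⟩

end Groth.Agent.ParaFLib
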