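import Groth.Agent.ParaFLib.Pair

/-!
# Parafactorial pairs and isomorphisms, opens
-/

set_option autoImplicit false
universe u

open CategoryTheory CategoryTheory.Limits AlgebraicGeometry TopologicalSpace Opposite
open Scheme.Modules

namespace Groth.Agent.ParaFLib

variable {X Y : Scheme.{u}}

/-- Restriction along an isomorphism is an equivalence. -/
noncomputable def restrictEquivOfIso {A B : Scheme.{u}} (e : A ≅ B) : B.Modules ≌ A.Modules :=
  CategoryTheory.Equivalence.mk (restrictFunctor e.hom) (restrictFunctor e.inv)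
    (restrictFunctorId.symm ≪≫ restrictFunctorCongr e.inv_hom_id.symm ≪≫ restrictFunctorComp e.inv e.hom)
    ((restrictFunctorComp e.hom e.inv).symm ≪≫ restrictFunctorCongr e.hom_inv_id ≪≫ restrictFunctorId)

/-- `InvRestrictEquiv` is invariant under isomorphisms of arrows. -/
lemma invRestrictEquiv_of_iso {U V U' V' : Scheme.{u}} (j : U ⟶ V) (j' : U' ⟶ V')
    [IsOpenImmersion j] [IsOpenImmersion j'] (eU : U ≅ U') (eV : V ≅ V')
    (w : j ≫ eV.hom = eU.hom ≫ j') (h : ParaF.InvRestrictEquiv j') : ParaF.InvRestrictEquiv j := by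
  let E := restrictEquivOfIso eV
  let G := restrictEquivOfIso eU
  let φ : restrictFunctor eV.hom ⋙ restrictFunctor j ≅ restrictFunctor j' ⋙ restrictFunctor eU.hom :=
    sqIso j eV.hom eU.hom j' w
  refine ⟨fun L L' hL hL' => ?_, fun L₀ hL₀ => ?_⟩
  · obtain ⟨M, ⟨a⟩⟩ : ∃ M : V'.Modules, Nonempty (M.restrict eV.hom ≅ L) :=
      ⟨L.restrict eV.inv, ⟨(E.counitIso.app L)⟩⟩
    obtain ⟨M', ⟨a'⟩⟩ : ∃ M' : V'.Modules, Nonempty (M'.restrict eV.hom ≅ L') :=
      ⟨L'.restrict eV.inv, ⟨(E.counitIso.app L')⟩⟩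
    have hM : ∀ {N : V'.Modules} {K : V.Modules}, (N.restrict eV.hom ≅ K) → PicF.IsInvertible K →
        PicF.IsInvertible N := fun {N K} b hK =>
      isInvertible_of_iso ((restrictFunctor eV.inv).mapIso b.symm ≪≫ (E.unitIso.app N).symm)
        (isInvertible_restrict eV.inv hK)
    have hb := h.1 M M' (hM a hL) (hM a' hL')
    have h1 : Function.Bijective (fun ψ : M ⟶ M' => (restrictFunctor eV.hom).map ψ) :=
      ⟨E.functor.map_injective, E.functor.map_surjective⟩
    have h2 : Function.Bijective (fun ψ : (restrictFunctor j').obj M ⟶ (restrictFunctor j').obj M' =>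
        (restrictFunctor eU.hom).map ψ) :=
      ⟨G.functor.map_injective, G.functor.map_surjective⟩
    have h3 : Function.Bijective (fun ψ : M ⟶ M' =>
        (restrictFunctor j).map ((restrictFunctor eV.hom).map ψ)) := by
      have heq : (fun ψ : M ⟶ M' => (restrictFunctor j).map ((restrictFunctor eV.hom).map ψ)) =
          fun ψ => ((φ.app M).symm.homCongr (φ.app M').symm)
            ((restrictFunctor eU.hom).map ((restrictFunctor j').map ψ)) := by
        funext ψ
        simp only [Iso.homCongr_apply, Iso.symm_inv, Iso.symm_hom, Iso.app_hom, Iso.app_inv]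
        exact ((NatIso.naturality_2 φ ψ)).symm
      rw [heq]
      exact (Equiv.bijective _).comp (h2.comp hb)
    have h4 : Function.Bijective (fun χ : M.restrict eV.hom ⟶ M'.restrict eV.hom =>
        (restrictFunctor j).map χ) := (Function.Bijective.of_comp_iff _ h1).1 h3
    have heq : (fun χ : L ⟶ L' => (restrictFunctor j).map χ) = fun χ =>
        (((restrictFunctor j).mapIso a).homCongr ((restrictFunctor j).mapIso a'))
          ((restrictFunctor j).map ((a.homCongr a').symm χ)) := by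
      funext χ
      simp [Iso.homCongr_apply, ← Functor.map_comp]
    rw [heq]
    exact (Equiv.bijective _).comp (h4.comp (Equiv.bijective _))
  · obtain ⟨M, hM, ⟨b⟩⟩ := h.2 (L₀.restrict eU.inv) (isInvertible_restrict eU.inv hL₀)
    exact ⟨M.restrict eV.hom, isInvertible_restrict eV.hom hM,
      ⟨φ.app M ≪≫ (restrictFunctor eU.hom).mapIso b ≪≫ G.counitIso.app L₀⟩⟩


lemma opensRange_homOfLE' {C A : X.Opens} (h : C ≤ A) : (X.homOfLE h).opensRange = A.ι ⁻¹ᵁ C := by
  ext x
  constructor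
  · rintro ⟨y, rfl⟩
    change A.ι (X.homOfLE h y) ∈ C
    rw [← Scheme.Hom.comp_apply, Scheme.homOfLE_ι]
    exact y.2
  · intro hx
    exact ⟨⟨x.1, hx⟩, X.homOfLE_apply' h x.1 hx⟩

lemma secBij_homOfLE {U C A : X.Opens} (h : SecBij U (Coh.structureModule X)) (hCA : C ≤ A)
    (hC : A ⊓ U = C) : SecBij (X.homOfLE hCA).opensRange (Coh.structureModule (A : Scheme.{u})) := by
  have e : (X.homOfLE hCA).opensRange = A.ι ⁻¹ᵁ U := by
    rw [opensRange_homOfLE']
    ext x
    change A.ι x ∈ C ↔ A.ι x ∈ U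
    rw [← hC]
    exact ⟨fun hx => hx.2, fun hx => ⟨x.2, hx⟩⟩
  rw [e]
  exact (h.restrict A.ι).of_iso (restrictUnitIso A.ι)

/-- Invertibility may be checked on the images of open immersions. -/
lemma isInvertible_of_cover {L : X.Modules}
    (h : ∀ x : X, ∃ (B : Scheme.{u}) (k : B ⟶ X) (_ : IsOpenImmersion k),
      x ∈ k.opensRange ∧ PicF.IsInvertible (L.restrict k)) :
    PicF.IsInvertible L :=
  isInvertible_of_local fun x => by
    obtain ⟨B, k, _, hx, hB⟩ := h x
    let R : X.Opens := k.opensRange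
    let i : (R : Scheme.{u}) ⟶ B := k.isoOpensRange.inv
    have w : R.ι = i ≫ k := (k.isoOpensRange_inv_comp).symm
    have e : L.restrict R.ι ≅ (L.restrict k).restrict i :=
      (restrictFunctorCongr w).app L ≪≫ (restrictFunctorComp i k).app L
    exact ⟨R, hx, isInvertible_of_iso e.symm (isInvertible_restrict i hB)⟩

/-- A pair on an open subscheme gives the condition at the opens it contains. -/
lemma invRestrictEquiv_of_pair_opens (W V : X.Opens) (F : Closeds X) (hVW : V ≤ W)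
    (h : ParaF.IsParafactorialPair (W : Scheme.{u}) (ParaF.closedsIn W F)) :
    ParaF.InvRestrictEquiv (X.homOfLE (inf_le_left : V ⊓ F.compl ≤ V)) := by
  have hV : W.ι ''ᵁ (W.ι ⁻¹ᵁ V) = V := by
    rw [Scheme.Hom.image_preimage_eq_opensRange_inf, Scheme.Opens.opensRange_ι, inf_eq_right.2 hVW]
  have hU : W.ι ''ᵁ (W.ι ⁻¹ᵁ V ⊓ (ParaF.closedsIn W F).compl) = V ⊓ F.compl := by
    ext x
    constructor
    · rintro ⟨v, ⟨hv, hvY⟩, rfl⟩
      exact ⟨hv, hvY⟩
    · rintro ⟨hv, hxY⟩
      exact ⟨⟨x, hVW hv⟩, ⟨hv, hxY⟩, rfl⟩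
  set eU := W.ι.isoImage (W.ι ⁻¹ᵁ V ⊓ (ParaF.closedsIn W F).compl) ≪≫ X.isoOfEq hU with heU
  set eV := W.ι.isoImage (W.ι ⁻¹ᵁ V) ≪≫ X.isoOfEq hV with heV
  set j' := (W : Scheme.{u}).homOfLE
    (inf_le_left : W.ι ⁻¹ᵁ V ⊓ (ParaF.closedsIn W F).compl ≤ W.ι ⁻¹ᵁ V) with hj'
  have key : j' ≫ eV.hom = eU.hom ≫ X.homOfLE (inf_le_left : V ⊓ F.compl ≤ V) := by
    rw [← cancel_mono V.ι, heU, heV, hj']
    simp
  have hj : ParaF.InvRestrictEquiv j' := h (W.ι ⁻¹ᵁ V)
  clear_value eU eV
  exact invRestrictEquiv_of_iso (U := ↑(V ⊓ F.compl)) (V := ↑V) _ j' eU.symm eV.symm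
    (by rw [Iso.symm_hom, Iso.symm_hom, Iso.eq_inv_comp, ← Category.assoc, ← key]; simp) hj

end Groth.Agent.ParaFLib
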