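import Groth.Agent.ParaFLib.Basic

/-!
# Parafactorial pairs: unfolding `InvRestrictEquiv`
-/

set_option autoImplicit false
universe u

open CategoryTheory CategoryTheory.Limits AlgebraicGeometry TopologicalSpace Opposite
open Scheme.Modules

namespace Groth.Agent.ParaFLib

variable {X Y : Scheme.{u}}

/-- Multiplication by a global function. -/
noncomputable def mulHom (M : X.Modules) (r : Γ(X, ⊤)) : M ⟶ M :=
  ⟨PresheafOfModules.homMk (M₁ := M.val) (M₂ := M.val)
    { app := fun W => AddCommGrpCat.ofHom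
        ((DistribSMul.toAddMonoidHom Γ(M, W.unop)
          (X.presheaf.map (homOfLE (le_top : W.unop ≤ ⊤)).op r)) : Γ(M, W.unop) →+ Γ(M, W.unop))
      naturality := fun {W W'} i => by
        ext (m : Γ(M, W.unop))
        refine Eq.trans ?_ (Scheme.Modules.map_smul M i.unop
          (X.presheaf.map (homOfLE (le_top : W.unop ≤ ⊤)).op r) m).symm
        change X.presheaf.map (homOfLE (le_top : W'.unop ≤ ⊤)).op r •
          (show Γ(M, W'.unop) from M.presheaf.map i.unop.op m) = _
        congr 1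
        rw [← ConcreteCategory.comp_apply, ← Functor.map_comp]
        rfl }
    (fun W a (m : Γ(M, W.unop)) => smul_comm (X.presheaf.map (homOfLE (le_top : W.unop ≤ ⊤)).op r)
      (show Γ(X, W.unop) from a) m)⟩

lemma mulHom_app (M : X.Modules) (r : Γ(X, ⊤)) (W : X.Opens) (m : Γ(M, W)) :
    (mulHom M r).app W m = X.presheaf.map (homOfLE (le_top : W ≤ ⊤)).op r • m := rfl

/-- The functions on the whole are the functions on the open when restriction is fully faithful. -/
lemma functions_bijective_of_invRestrictEquiv (j : Y ⟶ X) [IsOpenImmersion j]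
    (h : ParaF.InvRestrictEquiv j) :
    Function.Bijective (X.presheaf.map (homOfLE (le_top : j.opensRange ≤ ⊤)).op) := by
  have hb := h.1 _ _ (isInvertible_structureModule X) (isInvertible_structureModule X)
  have hone : ∀ r : Γ(X, ⊤), (mulHom (Coh.structureModule X) r).app ⊤ (1 : Γ(X, ⊤)) = r := fun r => by
    refine (mulHom_app (Coh.structureModule X) r ⊤ (1 : Γ(X, ⊤))).trans ?_
    rw [show homOfLE (le_top : (⊤ : X.Opens) ≤ ⊤) = 𝟙 _ from rfl, op_id,
      CategoryTheory.Functor.map_id]
    exact mul_one r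
  suffices Function.Bijective (X.presheaf.map (homOfLE (le_top : j ''ᵁ ⊤ ≤ ⊤)).op) from
    (bij_map_congr (Coh.structureModule X).presheaf (by simp) rfl le_top le_top).1 this
  refine ⟨(injective_iff_map_eq_zero _).2 fun r hr => ?_, fun s => ?_⟩
  · have h0 : (restrictFunctor j).map (mulHom (Coh.structureModule X) r) =
        (restrictFunctor j).map (0 : Coh.structureModule X ⟶ Coh.structureModule X) := by
      refine Scheme.Modules.hom_ext _ _ fun W => ?_
      ext (m : Γ(Coh.structureModule X, j ''ᵁ W))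
      change (mulHom (Coh.structureModule X) r).app (j ''ᵁ W) m = 0
      rw [mulHom_app]
      have hle : j ''ᵁ W ≤ j ''ᵁ ⊤ := j.image_mono le_top
      have h1 := congrArg (X.presheaf.map (homOfLE hle).op) hr
      rw [map_zero, ← ConcreteCategory.comp_apply, ← Functor.map_comp, ← op_comp, homOfLE_comp] at h1
      rw [h1, zero_smul]
    have h2 := hb.1 h0
    rw [← hone r, h2]
    rfl
  · obtain ⟨ψ, hψ⟩ := hb.2 (mulHom ((Coh.structureModule X).restrict j) ((j.appIso ⊤).hom s))
    refine ⟨ψ.app ⊤ (1 : Γ(X, ⊤)), ?_⟩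
    have h1 := congrArg (fun φ => φ.app ⊤ (show Γ((Coh.structureModule X).restrict j, ⊤) from
      (1 : Γ(X, j ''ᵁ ⊤)))) hψ
    have h2 : ψ.app (j ''ᵁ ⊤) (1 : Γ(X, j ''ᵁ ⊤)) = s := by
      refine h1.trans ?_
      refine (mulHom_app ((Coh.structureModule X).restrict j) _ ⊤ _).trans ?_
      rw [show homOfLE (le_top : (⊤ : Y.Opens) ≤ ⊤) = 𝟙 _ from rfl, op_id,
        CategoryTheory.Functor.map_id]
      change (j.appIso ⊤).inv ((j.appIso ⊤).hom _) * 1 = _
      rw [mul_one, ← ConcreteCategory.comp_apply, Iso.hom_inv_id]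
      rfl
    refine Eq.trans ?_ h2
    refine Eq.trans (app_map ψ (le_top : j ''ᵁ ⊤ ≤ ⊤) (1 : Γ(X, ⊤))).symm ?_
    exact congrArg _ (map_one (X.presheaf.map (homOfLE (le_top : j ''ᵁ ⊤ ≤ ⊤)).op).hom)

/-- Given bijectivity on functions, restriction is an equivalence on invertible modules as soon as
the pushforwards are invertible, and conversely. -/
lemma invRestrictEquiv_iff_pushforward (j : Y ⟶ X) [IsOpenImmersion j]
    (h : SecBij j.opensRange (Coh.structureModule X)) :
    ParaF.InvRestrictEquiv j ↔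
      ∀ L₀ : Y.Modules, PicF.IsInvertible L₀ → PicF.IsInvertible ((pushforward j).obj L₀) := by
  refine ⟨fun hj L₀ hL₀ => ?_, fun hj => ⟨fun L L' _ hL' => bijective_map j (secBij_of_isInvertible h hL'),
    fun L₀ hL₀ => ⟨_, hj L₀ hL₀, ⟨pushforwardRestrictIso j L₀⟩⟩⟩⟩
  obtain ⟨L, hL, ⟨e⟩⟩ := hj.2 L₀ hL₀
  exact isInvertible_of_iso (isoPushforward j (secBij_of_isInvertible h hL) e) hL

lemma opensRange_homOfLE (U V : X.Opens) :
    (X.homOfLE (inf_le_left : V ⊓ U ≤ V)).opensRange = V.ι ⁻¹ᵁ U := by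
  ext x
  constructor
  · rintro ⟨y, rfl⟩
    change V.ι (X.homOfLE (inf_le_left : V ⊓ U ≤ V) y) ∈ U
    rw [← Scheme.Hom.comp_apply, Scheme.homOfLE_ι]
    exact y.2.2
  · intro hx
    exact ⟨⟨x.1, x.2, hx⟩, X.homOfLE_apply' (inf_le_left : V ⊓ U ≤ V) x.1 ⟨x.2, hx⟩⟩

lemma secBij_opens {U : X.Opens} (h : SecBij U (Coh.structureModule X)) (V : X.Opens) :
    SecBij (X.homOfLE (inf_le_left : V ⊓ U ≤ V)).opensRange (Coh.structureModule (V : Scheme.{u})) := by
  rw [opensRange_homOfLE]
  exact (h.restrict V.ι).of_iso (restrictUnitIso V.ι)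

/-- A parafactorial pair has bijective restriction of functions. -/
lemma secBij_of_pair (F : Closeds X) (h : ParaF.IsParafactorialPair X F) :
    SecBij F.compl (Coh.structureModule X) := by
  intro V
  have hb := functions_bijective_of_invRestrictEquiv _ (h V)
  have e : V.ι ''ᵁ (X.homOfLE (inf_le_left : V ⊓ F.compl ≤ V)).opensRange = V ⊓ F.compl := by
    rw [opensRange_homOfLE, Scheme.Hom.image_preimage_eq_opensRange_inf, Scheme.Opens.opensRange_ι]
  exact (bij_map_congr (Coh.structureModule X).presheaf e V.ι_image_top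
    (Scheme.Hom.image_mono _ le_top) inf_le_left).1 hb

/-- Parafactoriality: bijectivity on functions and invertibility of pushforwards. -/
lemma isParafactorialPair_iff (F : Closeds X) :
    ParaF.IsParafactorialPair X F ↔ SecBij F.compl (Coh.structureModule X) ∧
      ∀ (V : X.Opens) (L : ((V ⊓ F.compl : X.Opens) : Scheme.{u}).Modules), PicF.IsInvertible L →
        PicF.IsInvertible ((pushforward (X.homOfLE (inf_le_left : V ⊓ F.compl ≤ V))).obj L) :=
  ⟨fun h => ⟨secBij_of_pair F h, fun V =>
      (invRestrictEquiv_iff_pushforward _ (secBij_opens (secBij_of_pair F h) V)).1 (h V)⟩,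
    fun h V => (invRestrictEquiv_iff_pushforward _ (secBij_opens h.1 V)).2 (h.2 V)⟩

end Groth.Agent.ParaFLib
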